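import Groth.Agent.Lib.SuppFin13.DetTwist
import Groth.Agent.Lib.CurveNF.Complete
import Groth.Agent.Lib.TateTors22.CurveThrough
import Groth.Agent.Lib.AlgSpDecent.DimMor
import Groth.Agent.Lib.CubeField.Simple
import Groth.Agent.Lib.AlgEquiv22.NonDeg
import Groth.Agent.Lib.TensorMod.PullSupport
import Groth.Agent.Lib.NS22.Endo
import Groth.Agent.Lib.Curve17.Basic
import Groth.Agent.Lib.LangFix19.Basic
import Groth.Agent.Lib.RelAmple18.Ops
import Groth.Agent.Lib.Hilb13.Segment
import Groth.Agent.Lib.Ample18.Ample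

/-!
# A coherent module invariant under twists by translation classes has finite support
-/

set_option autoImplicit false
set_option linter.style.haveILetI false
set_option linter.unusedSectionVars false
set_option backward.isDefEq.respectTransparency false
set_option backward.isDefEq.respectTransparency.types false
set_option maxHeartbeats 1600000

universe u

open CategoryTheory CategoryTheory.Limits MonoidalCategory CartesianMonoidalCategory AlgebraicGeometry
open TopologicalSpace
open scoped MonObj GrpObj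

noncomputable section

namespace Groth.Agent.SuppFin13

open Groth.Agent.AlgEquiv22 Groth.Agent.CubeField

noncomputable local instance instLawSupp (Y : Scheme.{u}) : PicGrp.Law Y := M2.law Y

variable {k : Type u} [Field k] [IsAlgClosed k]

/-- The normalization of an integral proper curve. -/
theorem exists_normal_cover {C : Scheme.{u}} [IsIntegral C] (q : C ⟶ Spec (CommRingCat.of k)) [IsProper q]
    (hd : topologicalKrullDim C ≤ 1) :
    ∃ (Y : Scheme.{u}) (_ : IsIntegral Y) (ν : Y ⟶ C), IsFinite ν ∧ Surjective ν ∧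
      ∀ y : Y, IsPrincipalIdealRing (Y.presheaf.stalk y) := by
  haveI : QuasiCompact (C.fromSpecStalk (genericPoint C)) := inferInstance
  haveI : QuasiSeparated (C.fromSpecStalk (genericPoint C)) := inferInstance
  let g := C.fromSpecStalk (genericPoint C)
  have hg : g = Spec.map (CommRingCat.ofHom (RingHom.id C.functionField)) ≫ g := by
    erw [Spec.map_id, Category.id_comp]
  obtain ⟨hI, hN⟩ := CurveNF.isIntegral_and_normal (g := g) hg
  haveI := hI
  haveI : IsFinite g.fromNormalization := CurveNF.isFinite_fromNormalization (g := g) hg q (RingHom.Finite.id _)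
  refine ⟨g.normalization, hI, g.fromNormalization, ‹_›, CurveNF.surjective_fromNormalization hg, fun y => ?_⟩
  haveI : IsLocallyNoetherian g.normalization :=
    LocallyOfFiniteType.isLocallyNoetherian (g.fromNormalization ≫ q)
  haveI : IsIntegrallyClosed (g.normalization.presheaf.stalk y) := (hN y).2
  have hdim : ringKrullDim (g.normalization.presheaf.stalk y) ≤ 1 := by
    let := specializationOrder g.normalization
    refine le_trans ?_ ((AlgSpDecent.topologicalKrullDim_le_of_lqf g.fromNormalization).trans hd)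
    rw [ringKrullDim_stalk_eq_coheight, topologicalKrullDim,
      Order.krullDim_eq_of_orderIso (irreducibleSetEquivPoints (α := g.normalization))]
    exact Order.coheight_le_krullDim _
  by_cases hf : IsField (g.normalization.presheaf.stalk y)
  · refine ⟨fun I => ?_⟩
    rcases eq_or_ne I ⊥ with rfl | hI
    · exact ⟨⟨0, by simp⟩⟩
    · obtain ⟨a, haI, ha⟩ := (Submodule.ne_bot_iff I).1 hI
      obtain ⟨b, hb⟩ := hf.mul_inv_cancel ha
      exact ⟨⟨1, by rw [(Ideal.eq_top_iff_one I).2 (hb ▸ I.mul_mem_right b haI)]; exact (Ideal.span_singleton_one).symm⟩⟩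
  · have h0 : ringKrullDim (g.normalization.presheaf.stalk y) ≠ 0 := fun h => hf (by
      haveI : Ring.KrullDimLE 0 (g.normalization.presheaf.stalk y) := Ring.krullDimLE_iff.2 (by exact_mod_cast h.le)
      exact Ring.KrullDimLE.isField_of_isDomain)
    have hpos : (0 : WithBot ℕ∞) < ringKrullDim (g.normalization.presheaf.stalk y) :=
      lt_of_le_of_ne ringKrullDim_nonneg_of_nontrivial (Ne.symm h0)
    have h1 : ringKrullDim (g.normalization.presheaf.stalk y) = 1 := le_antisymm hdim (by
      revert hpos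
      generalize ringKrullDim (g.normalization.presheaf.stalk y) = t
      intro hpos
      induction t with
      | bot => exact absurd hpos not_lt_bot
      | coe a => exact_mod_cast Order.one_le_iff_pos.2 (by exact_mod_cast hpos))
    haveI := Curve17.isDiscreteValuationRing_of_dim_one _ h1
    infer_instance

variable {A : Over (Spec (CommRingCat.of k))} [GrpObj A] [IsProper A.hom] [GeometricallyIntegral A.hom]

/-- The twisting modules have classes `t_a^* L - L`. -/
def Twists (F : A.left.Modules) (c : PicLoc.PicSet A.left) : Prop :=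
  ∀ a : 𝟙_ (Over (Spec (CommRingCat.of k))) ⟶ A, ∃ (M : A.left.Modules) (hM : PicF.IsInvertible M),
    PicGrp.cls M hM = pb (𝟙 A * (toUnit A ≫ a)) c * c⁻¹ ∧ Nonempty (CohB1.tensorMod F M ≅ F)

/-- The translation by a point. -/
abbrev τ (a : 𝟙_ (Over (Spec (CommRingCat.of k))) ⟶ A) : A ⟶ A := 𝟙 A * (toUnit A ≫ a)

theorem τ_comp (a b : 𝟙_ (Over (Spec (CommRingCat.of k))) ⟶ A) : τ a ≫ τ b = τ (a * b) := by
  rw [MonObj.comp_mul, Category.comp_id, comp_toUnit_assoc, _root_.mul_assoc, ← MonObj.comp_mul]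

theorem τ_one : τ (1 : 𝟙_ (Over (Spec (CommRingCat.of k))) ⟶ A) = 𝟙 A := by
  rw [τ, MonObj.comp_one, _root_.mul_one]

/-- If all twists are trivial on a variety mapping to `A`, its points differ by points fixing the class. -/
theorem fix_of_twist_trivial {Y : Over (Spec (CommRingCat.of k))} [IsProper Y.hom] [GeometricallyIntegral Y.hom]
    (p : Y ⟶ A) (y₀ : 𝟙_ (Over (Spec (CommRingCat.of k))) ⟶ Y) (c : PicLoc.PicSet A.left)
    (key : ∀ a : 𝟙_ (Over (Spec (CommRingCat.of k))) ⟶ A, pb p (pb (τ a) c * c⁻¹) = 1)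
    (s : 𝟙_ (Over (Spec (CommRingCat.of k))) ⟶ Y) : pb (τ ((y₀ ≫ p)⁻¹ * (s ≫ p))) c = c := by
  haveI := isCommMonObj_of_isProper_of_geometricallyIntegral A
  let d : PicLoc.PicSet (Y ⊗ A).left := pb ((fst Y A ≫ p) * snd Y A) c * (pb (fst Y A ≫ p) c)⁻¹ * (pb (snd Y A) c)⁻¹
  have hg : ∀ s : 𝟙_ (Over (Spec (CommRingCat.of k))) ⟶ Y,
      pb (lift (toUnit A ≫ s) (𝟙 A)) d = pb (τ (s ≫ p)) c * c⁻¹ := fun s => by
    simp only [d, map_mul, map_inv, pb_pb, MonObj.comp_mul, lift_snd, lift_fst_assoc, Category.assoc, pb_id]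
    rw [← pb_pb (toUnit A) (s ≫ p), point_eq_one (pb (s ≫ p) c), map_one, inv_one, _root_.mul_one,
      _root_.mul_comm (toUnit A ≫ s ≫ p) (𝟙 A)]
  let D := d * (pb (snd Y A) (pb (lift (toUnit A ≫ y₀) (𝟙 A)) d))⁻¹
  have hD : D = 1 := by
    obtain ⟨Nm, hNm, hDc⟩ := PicGrp.exists_eq_cls D
    rw [hDc]
    refine (PicGrp.cls_eq_one_iff _).2 ?_
    refine isTriv_of_point_slices y₀ finH1 Nm hNm (fun a => (isTriv_iff _ hNm).2 ?_) ((isTriv_iff _ hNm).2 ?_)
    · rw [← hDc, map_mul, map_inv, pb_pb (lift (𝟙 Y) (toUnit Y ≫ a)) (snd Y A), lift_snd,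
        ← pb_pb (toUnit Y) a, point_eq_one (pb a _), map_one, inv_one, _root_.mul_one]
      simp only [d, map_mul, map_inv, pb_pb, MonObj.comp_mul, lift_snd, lift_fst_assoc, Category.id_comp]
      rw [← pb_pb (toUnit Y) a, point_eq_one (pb a c), map_one, inv_one, _root_.mul_one]
      have h := key a
      rw [map_mul, map_inv, pb_pb, MonObj.comp_mul, Category.comp_id, comp_toUnit_assoc] at h
      exact h
    · rw [← hDc, map_mul, map_inv, pb_pb (lift (toUnit A ≫ y₀) (𝟙 A)) (snd Y A), lift_snd, pb_id,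
        mul_inv_cancel]
  have h := congrArg (pb (lift (toUnit A ≫ s) (𝟙 A))) hD
  rw [map_one, map_mul, map_inv, pb_pb (lift (toUnit A ≫ s) (𝟙 A)) (snd Y A), lift_snd, pb_id,
    mul_inv_eq_one, hg, hg, mul_left_inj] at h
  have h' := congrArg (pb (τ (y₀ ≫ p)⁻¹)) h
  rw [pb_pb, pb_pb, τ_comp, τ_comp, inv_mul_cancel, τ_one, pb_id] at h'
  exact h'

/-- A coherent module fixed by the twists of an ample class has finite support. -/
theorem support_finite {F : A.left.Modules} (hF : Coh.IsCoh F) {L : A.left.Modules} (hL : CohB1.IsAmple L)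
    (htw : Twists F (PicGrp.cls L hL.1)) : (CohB1.support F).Finite := by
  by_contra hinf
  haveI := isCommMonObj_of_isProper_of_geometricallyIntegral A
  haveI : IsLocallyNoetherian A.left := LocallyOfFiniteType.isLocallyNoetherian A.hom
  haveI : CompactSpace A.left := QuasiCompact.compactSpace_of_compactSpace A.hom
  haveI : AlgebraicGeometry.IsNoetherian A.left := { }
  have hFq : Coh.IsQCoh F := hF.1
  have hFT : CohB1.IsFT F := hF.2
  have hScl : IsClosed (CohB1.support F) := M1.isClosed_support hFT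
  -- an infinite irreducible closed piece
  obtain ⟨𝒮, h𝒮, h𝒮c, h𝒮i, h𝒮u⟩ : ∃ 𝒮 : Set (Set A.left), 𝒮.Finite ∧ (∀ T ∈ 𝒮, IsClosed T) ∧
      (∀ T ∈ 𝒮, IsIrreducible T) ∧ CohB1.support F = ⋃₀ 𝒮 :=
    NoetherianSpace.exists_finite_set_isClosed_irreducible hScl
  obtain ⟨T, hT, hTinf⟩ : ∃ T ∈ 𝒮, T.Infinite := by
    by_contra h
    push Not at h
    exact hinf (h𝒮u ▸ h𝒮.sUnion h)
  obtain ⟨B, hB, hBp, -, i, hi, hrange, -⟩ := exists_subvariety (h𝒮c T hT) (h𝒮i T hT)
  haveI := hB; haveI := hBp; haveI := hi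
  haveI : JacobsonSpace B.left := LocallyOfFiniteType.jacobsonSpace B.hom
  obtain ⟨x, -, hx⟩ := nonempty_inter_closedPoints (Z := (Set.univ : Set B.left)) Set.univ_nonempty
    isClosed_univ.isLocallyClosed
  have hη : genericPoint B.left ∉ ({x} : Set B.left) := by
    intro h
    have huniv : (Set.univ : Set B.left) ⊆ {x} := by
      rw [← (genericPoint_spec B.left).def]
      exact closure_minimal (Set.singleton_subset_iff.2 h) hx
    apply hTinf
    rw [← hrange, ← Set.image_univ]
    exact ((Set.finite_singleton x).subset huniv).image _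
  obtain ⟨y, hyx, hyne, hdim⟩ := TateTors22.exists_curve_avoiding B.hom x hx {x} hx hη
  obtain ⟨C, hC, hCp, -, j, hj, hjr, -⟩ := exists_subvariety (A := A)
    (T := closure ({i.left y} : Set A.left)) isClosed_closure isIrreducible_singleton.closure
  haveI := hC; haveI := hCp; haveI := hj
  have hdimC : topologicalKrullDim C.left ≤ 1 := by
    have h2 : closure ({i.left y} : Set A.left) = i.left '' closure {y} := by
      rw [← i.left.isClosedEmbedding.closure_image_eq, Set.image_singleton]
    let e := j.left.isEmbedding.toHomeomorph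
    rw [IsHomeomorph.topologicalKrullDim_eq e e.isHomeomorph]
    have e' := i.left.isEmbedding.homeomorphImage (closure ({y} : Set B.left))
    rw [hjr, h2, ← IsHomeomorph.topologicalKrullDim_eq e' e'.isHomeomorph]
    exact hdim
  obtain ⟨Y₀, hY, ν, hν, hνs, hpid⟩ := exists_normal_cover C.hom hdimC
  haveI := hY; haveI := hν; haveI := hνs
  let Y : Over (Spec (CommRingCat.of k)) := Over.mk (ν ≫ C.hom)
  haveI : IsIntegral Y.left := hY
  haveI : IsProper Y.hom := inferInstanceAs (IsProper (ν ≫ C.hom))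
  haveI : GeometricallyIntegral Y.hom := geometricallyIntegral_of_isIntegral Y.hom
  haveI : IsLocallyNoetherian Y.left := LocallyOfFiniteType.isLocallyNoetherian Y.hom
  let p : Y ⟶ A := Over.homMk ν rfl ≫ j
  have hpr : Set.range p.left = closure ({i.left y} : Set A.left) := by
    have e : ⇑p.left = ⇑j.left ∘ ⇑ν := rfl
    rw [e, Set.range_comp, (show Function.Surjective ⇑ν from hνs.surj).range_eq, Set.image_univ, hjr]
  have hsub : closure ({i.left y} : Set A.left) ⊆ CohB1.support F := closure_minimal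
    (Set.singleton_subset_iff.2 (h𝒮u ▸ ⟨T, hT, hrange ▸ ⟨y, rfl⟩⟩)) hScl
  let E : Y.left.Modules := (Scheme.Modules.pullback p.left).obj F
  have hEc : Coh.IsCoh E := M1.isCoh_pullback p.left hF
  haveI : Coh.IsQCoh E := hEc.1
  have hfin : ∀ z : Y.left, Module.Finite (Y.left.presheaf.stalk z) (E.presheaf.stalk z) := fun z =>
    M1.finite_stalk hEc.1 hEc.2 z
  have hgen : genericPoint Y.left ∈ CohB1.support E := by
    rw [M2.support_pullback p.left hFq hFT]
    exact hsub (hpr ▸ Set.mem_range_self _)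
  set r := Module.finrank (Y.left.presheaf.stalk (genericPoint Y.left)) (E.presheaf.stalk (genericPoint Y.left))
  have hr : 0 < r := by
    letI : Field (Y.left.presheaf.stalk (genericPoint Y.left)) := inferInstanceAs (Field Y.left.functionField)
    haveI := hfin (genericPoint Y.left)
    haveI : Nontrivial (E.presheaf.stalk (genericPoint Y.left)) := not_subsingleton_iff_nontrivial.1 hgen
    exact Module.finrank_pos
  set c := PicGrp.cls L hL.1
  -- the powers of the twists are trivial on the curve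
  have key : ∀ a : 𝟙_ (Over (Spec (CommRingCat.of k))) ⟶ A,
      pb p (pb (𝟙 A * (toUnit A ≫ a)) (c ^ r) * (c ^ r)⁻¹) = 1 := by
    intro a
    obtain ⟨M, hM, hMc, ⟨e⟩⟩ := htw a
    let N := (Scheme.Modules.pullback p.left).obj M
    have hN : PicF.IsInvertible N := PicLoc.isInvertible_pullback p.left hM
    let θ : E ⟶ CohB1.tensorMod E N :=
      (Scheme.Modules.pullback p.left).map e.inv ≫ (M2.pullTensorIso p.left F M).hom
    haveI : Epi θ := inferInstance
    obtain ⟨t⟩ := nonempty_tensorPow_iso θ hfin hpid hN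
    have h1 : PicGrp.cls N hN ^ r = 1 := by
      rw [← Hilb13.cls_pow]
      exact (PicGrp.cls_eq_one_iff _).2 ⟨t⟩
    rw [← PicGrp.pullHom_cls (hL := hM) (h := M2.pullMul p.left),
      show PicGrp.pullHom p.left _ (PicGrp.cls M hM) = pb p (PicGrp.cls M hM) from rfl,
      hMc, ← map_pow, mul_pow, inv_pow, ← map_pow] at h1
    exact h1
  obtain ⟨Lr, hLr, hLrc⟩ : ∃ (Lr : A.left.Modules) (h : CohB1.IsAmple Lr), PicGrp.cls Lr h.1 = c ^ r :=
    ⟨CohB1.tensorPow L r, (Amp.isAmple_tensorPow_iff hL.1 hr).2 hL, by rw [← Hilb13.cls_pow]⟩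
  -- seesaw
  haveI : JacobsonSpace Y.left := LocallyOfFiniteType.jacobsonSpace Y.hom
  obtain ⟨z₀, -, hz₀⟩ := nonempty_inter_closedPoints (Z := (Set.univ : Set Y.left)) Set.univ_nonempty
    isClosed_univ.isLocallyClosed
  obtain ⟨y₀, -⟩ := exists_rpt (X := Y) hz₀
  have hfix : ∀ s : 𝟙_ (Over (Spec (CommRingCat.of k))) ⟶ Y,
      pb (τ ((y₀ ≫ p)⁻¹ * (s ≫ p))) (c ^ r) = c ^ r :=
    fix_of_twist_trivial p y₀ (c ^ r) key
  have hfinfix := finite_fixing hLr
  rw [hLrc] at hfinfix
  have hfin' : (Set.range fun s : 𝟙_ (Over (Spec (CommRingCat.of k))) ⟶ Y => s ≫ p).Finite := by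
    refine ((hfinfix.image fun b => b * (y₀ ≫ p))).subset ?_
    rintro _ ⟨s, rfl⟩
    exact ⟨(y₀ ≫ p)⁻¹ * (s ≫ p), hfix s, by dsimp only; rw [_root_.mul_comm ((y₀ ≫ p)⁻¹), inv_mul_cancel_right]⟩
  -- closed points of the curve lie in a finite set
  haveI : JacobsonSpace A.left := LocallyOfFiniteType.jacobsonSpace A.hom
  have hclfin : (closure ({i.left y} : Set A.left) ∩ closedPoints A.left).Finite := by
    refine (hfin'.image rpt).subset ?_
    rintro z ⟨hz, hzc⟩
    obtain ⟨w, hw, hwc⟩ : ∃ w, p.left w = z ∧ IsClosed ({w} : Set Y.left) := by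
      haveI : JacobsonSpace Y.left := LocallyOfFiniteType.jacobsonSpace Y.hom
      obtain ⟨w, hw, hwc⟩ := nonempty_inter_closedPoints (Z := p.left ⁻¹' {z}) (by
        obtain ⟨w, rfl⟩ := hpr.ge hz
        exact ⟨w, rfl⟩) (hzc.preimage p.left.continuous).isLocallyClosed
      exact ⟨w, hw, hwc⟩
    obtain ⟨s, hs⟩ := exists_rpt (X := Y) hwc
    exact ⟨s ≫ p, ⟨s, rfl⟩, by rw [rpt_comp, hs, hw]⟩
  have hyc : IsClosed ({i.left y} : Set A.left) := by
    have h2 := closure_inter_closedPoints (X := A.left) (isClosed_closure (s := ({i.left y} : Set A.left)))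
    have hclosed : IsClosed (closure ({i.left y} : Set A.left) ∩ closedPoints A.left) := by
      rw [← Set.biUnion_of_singleton (closure ({i.left y} : Set A.left) ∩ closedPoints A.left)]
      exact hclfin.isClosed_biUnion fun z hz => hz.2
    rw [hclosed.closure_eq] at h2
    exact (h2.ge (subset_closure rfl)).2
  refine hyne (i.left.isEmbedding.injective ?_)
  have hz : i.left x ∈ closure ({i.left y} : Set A.left) :=
    specializes_iff_mem_closure.1 (hyx.map i.left.continuous)
  rw [hyc.closure_eq] at hz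
  exact hz.symm

end Groth.Agent.SuppFin13
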