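import Groth.Agent.Lib.KoszShH13.TwistLB
import Groth.Agent.Lib.Curve17.IntChart
import Mathlib.LinearAlgebra.Determinant
import Mathlib.RingTheory.Localization.Module
import Mathlib.AlgebraicGeometry.FunctionField
import Mathlib.RingTheory.Finiteness.Cardinality

/-!
# A module isomorphic to its twist by a line bundle makes a power of the line bundle trivial

The determinant of the twisting map on the generic stalk glues to a nowhere vanishing section.
-/

set_option autoImplicit false
set_option linter.style.haveILetI false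
set_option linter.unusedSectionVars false
set_option backward.isDefEq.respectTransparency false
set_option backward.isDefEq.respectTransparency.types false
set_option maxHeartbeats 1000000

universe u

open CategoryTheory Limits AlgebraicGeometry Opposite TopologicalSpace

noncomputable section

namespace Groth.Agent.SuppFin13

open KoszShH13
open Curve17 (spO spF spO_germ spF_germ spF_smul)

/-- The determinant of a map which restricts to a surjection of a lattice is a unit. -/
theorem exists_unit_det {R K M V : Type u} [CommRing R] [IsDomain R] [IsPrincipalIdealRing R] [Field K]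
    [Algebra R K] [IsFractionRing R K] [AddCommGroup M] [Module R M] [Module.Finite R M]
    [AddCommGroup V] [Module K V] [Module R V] [IsScalarTower R K V]
    (j : M →ₗ[R] V) (hj : ∀ v : V, ∃ (c : R) (m : M), c ≠ 0 ∧ c • v = j m)
    (f : M →ₗ[R] M) (hf : Function.Surjective f) (g : V →ₗ[K] V) (hg : ∀ m, g (j m) = j (f m)) :
    IsUnit (LinearMap.det g) ∧ ∃ u : Rˣ, LinearMap.det g = algebraMap R K u := by
  classical
  let Λ := LinearMap.range j
  haveI : Module.IsTorsionFree R V := Module.IsTorsionFree.trans_faithfulSMul R K V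
  haveI : Module.IsTorsionFree R Λ := inferInstance
  haveI : Module.Finite R Λ := Module.Finite.range j
  obtain ⟨n, b⟩ := Module.basisOfFiniteTypeTorsionFree' (R := R) (M := Λ)
  have hinj : Function.Injective (algebraMap R K) := IsFractionRing.injective R K
  let fΛ : Λ →ₗ[R] Λ := (g.restrictScalars R).restrict (p := Λ) (q := Λ) (by
    rintro _ ⟨m, rfl⟩
    exact ⟨f m, (hg m).symm⟩)
  have hsurj : Function.Surjective fΛ := by
    rintro ⟨_, m, rfl⟩
    obtain ⟨m', rfl⟩ := hf m
    exact ⟨⟨j m', m', rfl⟩, Subtype.ext (hg m')⟩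
  have hunit : IsUnit (LinearMap.det fΛ) := by
    let e := LinearEquiv.ofBijective fΛ ⟨OrzechProperty.injective_of_surjective_endomorphism _ hsurj, hsurj⟩
    exact LinearEquiv.isUnit_det' e
  -- the basis over the fraction field
  have hli : LinearIndependent K fun i => (b i : V) := by
    rw [← LinearIndependent.iff_fractionRing R K]
    exact (b.linearIndependent.map' Λ.subtype Λ.ker_subtype :)
  have hsp : ⊤ ≤ Submodule.span K (Set.range fun i => (b i : V)) := by
    intro v _
    obtain ⟨c, m, hc, hcm⟩ := hj v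
    have hmem : j m ∈ Submodule.span K (Set.range fun i => (b i : V)) := by
      have h := congrArg Λ.subtype (b.sum_repr ⟨j m, m, rfl⟩)
      rw [map_sum] at h
      rw [show j m = _ from h.symm]
      refine Submodule.sum_mem _ fun i _ => ?_
      rw [map_smul, ← algebraMap_smul K (b.repr ⟨j m, m, rfl⟩ i) (Λ.subtype (b i))]
      exact Submodule.smul_mem _ _ (Submodule.subset_span ⟨i, rfl⟩)
    have hc' : algebraMap R K c ≠ 0 := fun h => hc (hinj (h.trans (map_zero _).symm))
    rw [← hcm, ← algebraMap_smul K c v] at hmem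
    exact (Submodule.smul_mem_iff _ hc').1 hmem
  let B : Module.Basis (Fin n) K V := Module.Basis.mk hli hsp
  have hmat : LinearMap.toMatrix B B g = (LinearMap.toMatrix b b fΛ).map (algebraMap R K) := by
    ext i l
    rw [LinearMap.toMatrix_apply, Matrix.map_apply, LinearMap.toMatrix_apply]
    have h1 : g (B l) = ∑ i, algebraMap R K (b.repr (fΛ (b l)) i) • B i := by
      have h := congrArg Λ.subtype (b.sum_repr (fΛ (b l)))
      rw [map_sum] at h
      rw [show B l = (b l : V) by simp [B]]
      refine (show g (b l : V) = Λ.subtype (fΛ (b l)) from rfl).trans (h.symm.trans ?_)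
      refine Finset.sum_congr rfl fun i _ => ?_
      rw [map_smul, algebraMap_smul]
      simp [B]
    rw [h1, B.repr_sum_self]
  have hdet : LinearMap.det g = algebraMap R K (LinearMap.det fΛ) := by
    rw [← LinearMap.det_toMatrix B, hmat, ← LinearMap.det_toMatrix b, RingHom.map_det]
    rfl
  obtain ⟨u, hu⟩ := hunit
  exact ⟨by rw [hdet, ← hu]; exact u.isUnit.map (algebraMap R K), u, by rw [hdet, ← hu]⟩

variable {X : Scheme.{u}} [IsIntegral X] {E N : X.Modules}

/-- The generic point of a nonempty open. -/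
theorem gen_mem {U : X.Opens} {x : X} (hx : x ∈ U) : genericPoint X ∈ U :=
  (genericPoint_specializes x).mem_open U.2 hx

variable (θ : E ⟶ CohB1.tensorMod E N)

/-- The twisting map read on the generic stalk through a generator. -/
def psiGen (η : (N.presheaf.stalk (genericPoint X) : Type u)) (hη : IsGenAt N (genericPoint X) η) :
    (E.presheaf.stalk (genericPoint X) : Type u) →ₗ[X.presheaf.stalk (genericPoint X)]
      (E.presheaf.stalk (genericPoint X) : Type u) :=
  (LinearEquiv.ofBijective (tau E η) (bijective_tau E hη)).symm.toLinearMap.comp (stLin θ (genericPoint X))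

theorem tau_psiGen (η : (N.presheaf.stalk (genericPoint X) : Type u)) (hη : IsGenAt N (genericPoint X) η)
    (v : (E.presheaf.stalk (genericPoint X) : Type u)) :
    tau E η (psiGen θ η hη v) = stLin θ (genericPoint X) v :=
  (LinearEquiv.ofBijective (tau E η) (bijective_tau E hη)).apply_symm_apply _

theorem psiGen_smul (c : X.presheaf.stalk (genericPoint X))
    (η η' : (N.presheaf.stalk (genericPoint X) : Type u)) (hη : IsGenAt N (genericPoint X) η)
    (hη' : IsGenAt N (genericPoint X) η') (e : η' = c • η) : psiGen θ η hη = c • psiGen θ η' hη' := by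
  refine LinearMap.ext fun v => (bijective_tau E hη).1 ?_
  rw [tau_psiGen, LinearMap.smul_apply, map_smul, ← tau_smul, ← e, tau_psiGen]

variable [Epi θ] [Coh.IsQCoh E]
  (hfin : ∀ x : X, Module.Finite (X.presheaf.stalk x) (E.presheaf.stalk x))
  (hpid : ∀ x : X, IsPrincipalIdealRing (X.presheaf.stalk x))

/-- The determinant attached to a generator. -/
abbrev detGen {U : X.affineOpens} (l : Γ(N, U.1)) (hl : M2.IsGenerator l) {x : X} (hx : x ∈ U.1) :
    X.presheaf.stalk (genericPoint X) :=
  LinearMap.det (psiGen θ (N.presheaf.germ U.1 (genericPoint X) (gen_mem hx) l)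
    (isGenAt_of_isGenerator hl (gen_mem hx)))

include hfin hpid in
theorem exists_unit_germ {U : X.affineOpens} (l : Γ(N, U.1)) (hl : M2.IsGenerator l) {x : X} (hx : x ∈ U.1) :
    ∃ u : (X.presheaf.stalk x)ˣ, spO (genericPoint_specializes x) u = detGen θ l hl hx := by
  let ξ := genericPoint X
  let h : ξ ⤳ x := genericPoint_specializes x
  letI : Field (X.presheaf.stalk ξ) := inferInstanceAs (Field X.functionField)
  letI : Algebra (X.presheaf.stalk x) (X.presheaf.stalk ξ) :=
    inferInstanceAs (Algebra (X.presheaf.stalk x) X.functionField)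
  haveI : IsFractionRing (X.presheaf.stalk x) (X.presheaf.stalk ξ) :=
    inferInstanceAs (IsFractionRing (X.presheaf.stalk x) X.functionField)
  letI : Module (X.presheaf.stalk x) (E.presheaf.stalk ξ) := Module.compHom _ (spO h)
  haveI : IsScalarTower (X.presheaf.stalk x) (X.presheaf.stalk ξ) (E.presheaf.stalk ξ) :=
    ⟨fun a b v => by
      rw [Algebra.smul_def, mul_smul]
      rfl⟩
  haveI := hfin x
  haveI := hpid x
  have hw := isGenAt_of_isGenerator hl hx
  let f : (E.presheaf.stalk x : Type u) →ₗ[X.presheaf.stalk x] (E.presheaf.stalk x : Type u) :=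
    (LinearEquiv.ofBijective (tau E (N.presheaf.germ U.1 x hx l)) (bijective_tau E hw)).symm.toLinearMap.comp
      (stLin θ x)
  let j : (E.presheaf.stalk x : Type u) →ₗ[X.presheaf.stalk x] (E.presheaf.stalk ξ : Type u) :=
    { toFun := spF E h
      map_add' := map_add _
      map_smul' := fun c v => spF_smul E h c v }
  have hf : Function.Surjective f := by
    refine (LinearEquiv.ofBijective (tau E (N.presheaf.germ U.1 x hx l)) (bijective_tau E hw)).symm.surjective.comp ?_
    exact (AddCommGrpCat.epi_iff_surjective ((M1.stalkAb x).map θ)).1 inferInstance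
  have hj : ∀ v, ∃ (c : X.presheaf.stalk x) (m : (E.presheaf.stalk x : Type u)), c ≠ 0 ∧ c • v = j m := fun v => by
    obtain ⟨r, m, hr, e⟩ := M1.exists_germ_smul_eq E U.2 (gen_mem hx) v
    refine ⟨X.presheaf.germ U.1 x hx r, E.presheaf.germ U.1 x hx m, fun h0 => ?_, ?_⟩
    · have := congrArg (spO h) h0
      rw [spO_germ, map_zero] at this
      exact hr.ne_zero this
    · show spO h (X.presheaf.germ U.1 x hx r) • v = spF E h (E.presheaf.germ U.1 x hx m)
      rw [spO_germ, spF_germ]
      exact e
  have hg : ∀ m, psiGen θ (N.presheaf.germ U.1 ξ (gen_mem hx) l) (isGenAt_of_isGenerator hl (gen_mem hx)) (j m) =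
      j (f m) := fun m => by
    obtain ⟨V, hVU, hxV, hVaff, m', rfl⟩ : ∃ (V : X.Opens) (_ : V ≤ U.1) (hxV : x ∈ V) (_ : IsAffineOpen V)
        (m' : Γ(E, V)), E.presheaf.germ V x hxV m' = m := by
      obtain ⟨W, hxW, m', rfl⟩ := E.presheaf.exists_germ_eq m
      obtain ⟨_, ⟨V, hV, rfl⟩, hxV, hVW⟩ :=
        X.isBasis_affineOpens.exists_subset_of_mem_open (show x ∈ W ⊓ U.1 from ⟨hxW, hx⟩) (W ⊓ U.1).2
      exact ⟨V, hVW.trans inf_le_right, hxV, hV, M1.mres E (hVW.trans inf_le_left) m', M1.germ_mres E _ hxV m'⟩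
    have hl' : M2.IsGenerator (U := V) (M1.mres N hVU l) := isGenerator_mres hl hVU
    obtain ⟨n, hn⟩ := (bijective_psiL (U := ⟨V, hVaff⟩) hl' E).2 (θ.app V m')
    have hn' : SecTwist.tmul E N V n (M1.mres N hVU l) = θ.app V m' := hn
    have e1 : f (E.presheaf.germ V x hxV m') = E.presheaf.germ V x hxV n := by
      apply (bijective_tau E hw).1
      refine ((LinearEquiv.ofBijective _ (bijective_tau E hw)).apply_symm_apply _).trans ?_
      rw [stLin_germ, tau_germ E _ hxV (M1.mres N hVU l) (M1.germ_mres N hVU hxV l), hn']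
    rw [e1]
    show psiGen θ _ _ (spF E h (E.presheaf.germ V x hxV m')) = spF E h (E.presheaf.germ V x hxV n)
    rw [spF_germ, spF_germ]
    apply (bijective_tau E (isGenAt_of_isGenerator hl (gen_mem hx))).1
    rw [tau_psiGen, stLin_germ, tau_germ E _ (gen_mem hxV) (M1.mres N hVU l)
      (M1.germ_mres N hVU (gen_mem hxV) l), hn']
  obtain ⟨-, u, hu⟩ := exists_unit_det (K := X.presheaf.stalk ξ) j hj f hf _ hg
  exact ⟨u, hu.symm⟩

include hfin hpid in
/-- The glued determinant. -/
theorem exists_section {U : X.affineOpens} (l : Γ(N, U.1)) (hl : M2.IsGenerator l) :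
    ∃ a : Γ(X, U.1), (∀ (x : X) (hx : x ∈ U.1), IsUnit (X.presheaf.germ U.1 x hx a)) ∧
      ∀ (x : X) (hx : x ∈ U.1), X.presheaf.germ U.1 (genericPoint X) (gen_mem hx) a = detGen θ l hl hx := by
  have hloc : ∀ x : U.1, ∃ (W : X.Opens) (_ : W ≤ U.1) (hxW : x.1 ∈ W) (a : Γ(X, W)),
      X.presheaf.germ W (genericPoint X) (gen_mem hxW) a = detGen θ l hl x.2 := by
    rintro ⟨x, hx⟩
    obtain ⟨u, hu⟩ := exists_unit_germ θ hfin hpid l hl hx
    obtain ⟨W, hxW, a, ha⟩ := X.presheaf.exists_germ_eq (u : X.presheaf.stalk x)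
    refine ⟨W ⊓ U.1, inf_le_right, ⟨hxW, hx⟩, M1.ores inf_le_left a, ?_⟩
    rw [← hu, ← ha, spO_germ]
    exact X.presheaf.germ_res_apply (homOfLE (inf_le_left : W ⊓ U.1 ≤ W)) _ _ a
  choose W hW hxW a ha using hloc
  obtain ⟨s, hs, -⟩ := TopCat.Sheaf.existsUnique_gluing' X.sheaf W U.1 (fun x => homOfLE (hW x))
    (fun x hx => Opens.mem_iSup.2 ⟨⟨x, hx⟩, hxW _⟩) a (fun i j => by
      by_cases hne : Nonempty (W i ⊓ W j : X.Opens)
      · obtain ⟨z, hz⟩ := hne
        refine germ_injective_of_isIntegral X (genericPoint X) (gen_mem hz) ?_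
        exact ((X.presheaf.germ_res_apply _ _ _ _).trans (ha i)).trans
          ((X.presheaf.germ_res_apply _ _ _ _).trans (ha j)).symm
      · refine TopCat.Presheaf.section_ext X.sheaf _ _ _ fun z hz => (hne ⟨⟨z, hz⟩⟩).elim)
  have hgen : ∀ (x : X) (hx : x ∈ U.1),
      X.presheaf.germ U.1 (genericPoint X) (gen_mem hx) s = detGen θ l hl hx := fun x hx => by
    rw [← ha ⟨x, hx⟩, ← hs ⟨x, hx⟩]
    exact (X.presheaf.germ_res_apply (homOfLE (hW ⟨x, hx⟩)) _ _ s).symm
  refine ⟨s, fun x hx => ?_, hgen⟩
  obtain ⟨u, hu⟩ := exists_unit_germ θ hfin hpid l hl hx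
  have e : X.presheaf.germ U.1 x hx s = u := by
    obtain ⟨W', hxW', b, hb⟩ := X.presheaf.exists_germ_eq (u : X.presheaf.stalk x)
    have h1 : X.presheaf.germ (U.1 ⊓ W') (genericPoint X) (gen_mem (⟨hx, hxW'⟩ : x ∈ U.1 ⊓ W'))
        (M1.ores inf_le_left s) =
        X.presheaf.germ (U.1 ⊓ W') (genericPoint X) (gen_mem (⟨hx, hxW'⟩ : x ∈ U.1 ⊓ W'))
          (M1.ores inf_le_right b) := by
      refine (X.presheaf.germ_res_apply _ _ _ s).trans ((hgen x hx).trans ?_)
      rw [← hu, ← hb, spO_germ]
      exact (X.presheaf.germ_res_apply _ _ _ b).symm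
    rw [← hb, ← X.presheaf.germ_res_apply (homOfLE (inf_le_left : U.1 ⊓ W' ≤ U.1)) x ⟨hx, hxW'⟩ s,
      ← X.presheaf.germ_res_apply (homOfLE (inf_le_right : U.1 ⊓ W' ≤ W')) x ⟨hx, hxW'⟩ b]
    exact congrArg _ (germ_injective_of_isIntegral X _ _ h1)
  rw [e]
  exact u.isUnit

include θ hfin hpid in
/-- A power of the line bundle is trivial. -/
theorem nonempty_tensorPow_iso (hN : PicF.IsInvertible N) :
    Nonempty (CohB1.tensorPow N (Module.finrank (X.presheaf.stalk (genericPoint X))
      (E.presheaf.stalk (genericPoint X))) ≅ Coh.structureModule X) := by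
  set r := Module.finrank (X.presheaf.stalk (genericPoint X)) (E.presheaf.stalk (genericPoint X))
  have hP := isAffBasis_genAff hN
  choose a hau hag using fun (U : X.affineOpens) (hU : GenAff N U) =>
    exists_section θ hfin hpid hU.choose hU.choose_spec
  let s : ∀ (U : X.affineOpens), GenAff N U → Γ(CohB1.tensorPow N r, U.1) := fun U hU =>
    a U hU • lpow hU.choose r
  have hres : ∀ (V : X.affineOpens) (hV : GenAff N V) (W : X.affineOpens) (hW : GenAff N W) (h : W.1 ≤ V.1),
      M1.mres (CohB1.tensorPow N r) h (s V hV) = s W hW := by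
    intro V hV W hW h
    obtain ⟨c, hc⟩ := (hW.choose_spec W.1 le_rfl).2 (M1.mres N h hV.choose)
    rw [show M2.res N le_rfl hW.choose = hW.choose from M1.mres_id N _ _] at hc
    change c • hW.choose = M1.mres N h hV.choose at hc
    show M1.mres _ h (a V hV • lpow hV.choose r) = a W hW • lpow hW.choose r
    rw [M1.mres_smul, lpow_mres h, ← hc, lpow_smul, smul_smul]
    rcases Set.eq_empty_or_nonempty (W.1 : Set X) with he | ⟨x, hx⟩
    · exact M1.section_ext _ _ fun z hz => absurd hz (by rw [← SetLike.mem_coe, he]; exact id)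
    congr 1
    refine germ_injective_of_isIntegral X (genericPoint X) (gen_mem hx) ?_
    rw [map_mul, map_pow, hag W hW x hx]
    refine (congrArg (· * _) ((X.presheaf.germ_res_apply (homOfLE h) _ _ _).trans (hag V hV x (h hx)))).trans ?_
    unfold detGen
    rw [psiGen_smul θ (X.presheaf.germ W.1 (genericPoint X) (gen_mem hx) c) _ _
        (isGenAt_of_isGenerator hW.choose_spec (gen_mem hx)) (isGenAt_of_isGenerator hV.choose_spec (gen_mem (h hx)))
        (by rw [← M1.germ_smul N _ c hW.choose, hc, M1.germ_mres]),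
      LinearMap.det_smul, mul_comm]
  obtain ⟨φ, hφ⟩ := exists_glue hP (M := Coh.structureModule X)
    (fun U hU => AddMonoidHom.mk' (fun t : Γ(Coh.structureModule X, U.1) => (show Γ(X, U.1) from t) • s U hU)
      fun t t' => add_smul (show Γ(X, U.1) from t) t' _)
    (fun U hU c t => mul_smul c (show Γ(X, U.1) from t) _)
    (fun V hV W hW h t => by
      show M1.mres _ h ((show Γ(X, V.1) from t) • s V hV) = _
      rw [M1.mres_smul, hres V hV W hW h]
      rfl)
  haveI : IsIso φ := by
    rw [M1.isIso_iff_stalk]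
    intro z
    show Function.Bijective (stLin φ z)
    obtain ⟨V, hV, hzV, -⟩ := hP ⊤ z trivial
    let e : (Coh.structureModule X).presheaf.stalk z :=
      (Coh.structureModule X).presheaf.germ V.1 z hzV (lpow (L := N) hV.choose 0)
    have he : IsGenAt (Coh.structureModule X) z e := isGenAt_lpow hV.choose_spec hzV 0
    have hg := isGenAt_lpow hV.choose_spec hzV r
    have hφe : stLin φ z e = X.presheaf.germ V.1 z hzV (a V hV) •
        (CohB1.tensorPow N r).presheaf.germ V.1 z hzV (lpow hV.choose r) := by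
      refine (stLin_germ φ hzV _).trans ?_
      rw [hφ V hV, ← M1.germ_smul]
      refine congrArg _ ?_
      exact one_smul Γ(X, V.1) (s V hV)
    obtain ⟨v, hv⟩ := hau V hV z hzV
    refine ⟨fun p q hpq => ?_, fun b => ?_⟩
    · obtain ⟨p, rfl⟩ := he.2 p
      obtain ⟨q, rfl⟩ := he.2 q
      simp only [map_smul, hφe, smul_smul] at hpq
      rw [← hv] at hpq
      exact congrArg (· • e) (v.isUnit.mul_right_cancel (hg.1 hpq))
    · obtain ⟨c, rfl⟩ := hg.2 b
      refine ⟨(c * (v⁻¹ : (X.presheaf.stalk z)ˣ)) • e, ?_⟩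
      rw [map_smul, hφe, smul_smul, ← hv, mul_assoc, Units.inv_mul, mul_one]
  exact ⟨(asIso φ).symm⟩

end Groth.Agent.SuppFin13
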